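import Mathlib

/-!
# `|det (w - q)| ≤ (q + 1) ^ l` for an automorphism `w` of finite order of `ℤ ^ l` (helper448)
-/

set_option autoImplicit false

namespace Cfsg.Agent.H448.FprCent

open Polynomial

theorem norm_of_root {l N : ℕ} {A : Matrix (Fin l) (Fin l) ℂ} (hN : N ≠ 0) (hA : A ^ N = 1) {μ : ℂ}
    (h : A.charpoly.IsRoot μ) : ‖μ‖ = 1 := by
  have h1 : (Matrix.scalar (Fin l) μ - A).det = 0 := by
    rw [← Matrix.eval_charpoly]
    exact h
  obtain ⟨v, hv, h2⟩ := Matrix.exists_mulVec_eq_zero_iff.2 h1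
  have h3 : A.mulVec v = μ • v := by
    rw [Matrix.sub_mulVec, sub_eq_zero] at h2
    rw [← h2]
    ext i
    simp [Matrix.scalar_apply, Matrix.mulVec_diagonal]
  have h4 : ∀ n : ℕ, (A ^ n).mulVec v = μ ^ n • v := by
    intro n
    induction n with
    | zero => simp
    | succ n ih => rw [pow_succ', ← Matrix.mulVec_mulVec, ih, Matrix.mulVec_smul, h3, smul_smul, pow_succ]
  have h5 := h4 N
  rw [hA, Matrix.one_mulVec] at h5
  have h6 : μ ^ N = 1 := by
    obtain ⟨i, hi⟩ := Function.ne_iff.1 hv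
    have h7 := congrFun h5 i
    rw [Pi.smul_apply, smul_eq_mul] at h7
    have h8 : (μ ^ N - 1) * v i = 0 := by rw [sub_mul, one_mul, ← h7, sub_self]
    rcases mul_eq_zero.1 h8 with h9 | h9
    · exact sub_eq_zero.1 h9
    · exact absurd h9 hi
  have h7 : ‖μ‖ ^ N = 1 := by rw [← norm_pow, h6, norm_one]
  exact (pow_eq_one_iff_of_nonneg (norm_nonneg _) hN).1 h7

theorem norm_det_le {l N : ℕ} {A : Matrix (Fin l) (Fin l) ℂ} (hN : N ≠ 0) (hA : A ^ N = 1) (q : ℕ) :
    ‖(A - Matrix.scalar (Fin l) (q : ℂ)).det‖ ≤ ((q : ℝ) + 1) ^ l := by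
  have h1 : (Matrix.scalar (Fin l) (q : ℂ) - A).det = A.charpoly.eval (q : ℂ) := (Matrix.eval_charpoly A (q : ℂ)).symm
  have h2 : ‖(A - Matrix.scalar (Fin l) (q : ℂ)).det‖ = ‖(Matrix.scalar (Fin l) (q : ℂ) - A).det‖ := by
    rw [← neg_sub, Matrix.det_neg, norm_mul, norm_pow, norm_neg, norm_one, one_pow, one_mul]
  have hs : A.charpoly.Splits := IsAlgClosed.splits _
  have h3 : A.charpoly.eval (q : ℂ) = (A.charpoly.roots.map fun μ => (q : ℂ) - μ).prod := by
    rw [hs.eval_eq_prod_roots_of_monic (Matrix.charpoly_monic A)]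
  have h4 : A.charpoly.roots.card = l := by
    rw [← hs.natDegree_eq_card_roots, Matrix.charpoly_natDegree_eq_dim, Fintype.card_fin]
  rw [h2, h1, h3]
  have key : ∀ s : Multiset ℂ, (∀ μ ∈ s, ‖μ‖ = 1) → ‖(s.map fun μ => (q : ℂ) - μ).prod‖ ≤ ((q : ℝ) + 1) ^ s.card := by
    intro s
    induction s using Multiset.induction_on with
    | empty => intro _; simp
    | cons a s ih =>
      intro h
      rw [Multiset.map_cons, Multiset.prod_cons, Multiset.card_cons, norm_mul, pow_succ']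
      have ha : ‖(q : ℂ) - a‖ ≤ (q : ℝ) + 1 := by
        refine (norm_sub_le _ _).trans ?_
        rw [h a (Multiset.mem_cons_self a s), Complex.norm_natCast]
      exact mul_le_mul ha (ih fun μ hμ => h μ (Multiset.mem_cons_of_mem hμ)) (norm_nonneg _) (by positivity)
  have h5 := key A.charpoly.roots fun μ hμ => norm_of_root hN hA (isRoot_of_mem_roots hμ)
  rwa [h4] at h5

/-- **The bound.** -/
theorem natAbs_det_le {l N : ℕ} {f : Module.End ℤ (Fin l → ℤ)} (hN : N ≠ 0) (hf : f ^ N = 1) (q : ℕ) :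
    (LinearMap.det (f - (q : ℤ) • (1 : Module.End ℤ (Fin l → ℤ)))).natAbs ≤ (q + 1) ^ l := by
  set B := LinearMap.toMatrix' f with hB
  have hB1 : B ^ N = 1 := by
    have h1 := congrArg (LinearMap.toMatrixAlgEquiv' (R := ℤ) (n := Fin l)) hf
    rw [map_pow, map_one] at h1
    exact h1
  set A := B.map (Int.castRingHom ℂ) with hA
  have hA1 : A ^ N = 1 := by
    have h1 := congrArg (RingHom.mapMatrix (Int.castRingHom ℂ)) hB1
    rw [map_pow, map_one] at h1
    exact h1
  have h1 : LinearMap.det (f - (q : ℤ) • (1 : Module.End ℤ (Fin l → ℤ))) = (B - Matrix.scalar (Fin l) (q : ℤ)).det := by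
    rw [← LinearMap.det_toMatrix', map_sub, map_smul, Module.End.one_eq_id, LinearMap.toMatrix'_id,
      Matrix.scalar_apply, ← Matrix.smul_one_eq_diagonal]
  have h2 : (((B - Matrix.scalar (Fin l) (q : ℤ)).det : ℤ) : ℂ) = (A - Matrix.scalar (Fin l) (q : ℂ)).det := by
    have h3 := RingHom.map_det (Int.castRingHom ℂ) (B - Matrix.scalar (Fin l) (q : ℤ))
    rw [map_sub] at h3
    have h4 : (RingHom.mapMatrix (Int.castRingHom ℂ)) (Matrix.scalar (Fin l) (q : ℤ)) = Matrix.scalar (Fin l) (q : ℂ) := by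
      ext i j
      rw [RingHom.mapMatrix_apply, Matrix.map_apply, Matrix.scalar_apply, Matrix.scalar_apply, Matrix.diagonal_apply,
        Matrix.diagonal_apply]
      split_ifs <;> simp
    rw [h4] at h3
    exact h3
  have h3 := norm_det_le hN hA1 q
  rw [← h2, Complex.norm_intCast, ← h1] at h3
  have h4 : (((LinearMap.det (f - (q : ℤ) • (1 : Module.End ℤ (Fin l → ℤ)))).natAbs : ℕ) : ℝ) ≤ (((q + 1) ^ l : ℕ) : ℝ) := by
    rw [Nat.cast_natAbs, Int.cast_abs]
    push_cast
    exact h3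
  exact_mod_cast h4

end Cfsg.Agent.H448.FprCent
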