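import Mathlib
import Cfsg.Agent.H448.FprCent.Det

/-!
# `|det (f - 1)| ≤ (√q + 1) ^ l` if `f ^ (2 N) = q ^ N` (helper448)
-/

set_option autoImplicit false

namespace Cfsg.Agent.H448.FprCent

open Polynomial

theorem norm_of_root' {l N q : ℕ} {A : Matrix (Fin l) (Fin l) ℂ} (hN : N ≠ 0)
    (hA : A ^ (2 * N) = ((q : ℂ) ^ N) • (1 : Matrix (Fin l) (Fin l) ℂ)) {μ : ℂ}
    (h : A.charpoly.IsRoot μ) : ‖μ‖ = Real.sqrt q := by
  have h1 : (Matrix.scalar (Fin l) μ - A).det = 0 := by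
    rw [← Matrix.eval_charpoly]
    exact h
  obtain ⟨v, hv, h2⟩ := Matrix.exists_mulVec_eq_zero_iff.2 h1
  have h3 : A.mulVec v = μ • v := by
    rw [Matrix.sub_mulVec, sub_eq_zero] at h2
    rw [← h2]
    ext i
    simp [Matrix.scalar_apply, Matrix.mulVec_diagonal]
  have h4 : ∀ n : ℕ, (A ^ n).mulVec v = μ ^ n • v := by
    intro n
    induction n with
    | zero => simp
    | succ n ih => rw [pow_succ', ← Matrix.mulVec_mulVec, ih, Matrix.mulVec_smul, h3, smul_smul, pow_succ]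
  have h5 := h4 (2 * N)
  rw [hA, Matrix.smul_mulVec, Matrix.one_mulVec] at h5
  have h6 : μ ^ (2 * N) = (q : ℂ) ^ N := by
    obtain ⟨i, hi⟩ := Function.ne_iff.1 hv
    have h7 := congrFun h5 i
    rw [Pi.smul_apply, Pi.smul_apply, smul_eq_mul, smul_eq_mul] at h7
    exact (mul_right_cancel₀ hi h7).symm
  have h7 : (‖μ‖ ^ 2) ^ N = (q : ℝ) ^ N := by
    rw [← pow_mul, ← norm_pow, h6, norm_pow, Complex.norm_natCast]
  have h8 : ‖μ‖ ^ 2 = (q : ℝ) := (pow_left_inj₀ (by positivity) (by positivity) hN).1 h7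
  rw [← h8, Real.sqrt_sq (norm_nonneg _)]

theorem norm_det_le' {l N q : ℕ} {A : Matrix (Fin l) (Fin l) ℂ} (hN : N ≠ 0)
    (hA : A ^ (2 * N) = ((q : ℂ) ^ N) • (1 : Matrix (Fin l) (Fin l) ℂ)) :
    ‖(1 - A).det‖ ≤ (Real.sqrt q + 1) ^ l := by
  have h1 : (1 - A).det = A.charpoly.eval 1 := by
    rw [Matrix.eval_charpoly, map_one]
  have hs : A.charpoly.Splits := IsAlgClosed.splits _
  have h3 : A.charpoly.eval (1 : ℂ) = (A.charpoly.roots.map fun μ => (1 : ℂ) - μ).prod := by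
    rw [hs.eval_eq_prod_roots_of_monic (Matrix.charpoly_monic A)]
  have h4 : A.charpoly.roots.card = l := by
    rw [← hs.natDegree_eq_card_roots, Matrix.charpoly_natDegree_eq_dim, Fintype.card_fin]
  rw [h1, h3]
  have key : ∀ s : Multiset ℂ, (∀ μ ∈ s, ‖μ‖ = Real.sqrt q) →
      ‖(s.map fun μ => (1 : ℂ) - μ).prod‖ ≤ (Real.sqrt q + 1) ^ s.card := by
    intro s
    induction s using Multiset.induction_on with
    | empty => intro _; simp
    | cons a s ih =>
      intro h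
      rw [Multiset.map_cons, Multiset.prod_cons, Multiset.card_cons, norm_mul, pow_succ']
      have ha : ‖(1 : ℂ) - a‖ ≤ Real.sqrt q + 1 := by
        refine (norm_sub_le _ _).trans ?_
        rw [h a (Multiset.mem_cons_self a s), norm_one, add_comm]
      exact mul_le_mul ha (ih fun μ hμ => h μ (Multiset.mem_cons_of_mem hμ)) (norm_nonneg _) (by positivity)
  have h5 := key A.charpoly.roots fun μ hμ => norm_of_root' hN hA (isRoot_of_mem_roots hμ)
  rwa [h4] at h5

/-- **The bound.** -/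
theorem natAbs_det_le' {l N q : ℕ} {f : Module.End ℤ (Fin l → ℤ)} (hN : N ≠ 0)
    (hf : f ^ (2 * N) = ((q : ℤ) ^ N) • (1 : Module.End ℤ (Fin l → ℤ))) :
    (((LinearMap.det (1 - f)).natAbs : ℕ) : ℝ) ≤ (Real.sqrt q + 1) ^ l := by
  set B := LinearMap.toMatrix' f with hB
  have hB1 : B ^ (2 * N) = ((q : ℤ) ^ N) • (1 : Matrix (Fin l) (Fin l) ℤ) := by
    have h1 := congrArg (LinearMap.toMatrixAlgEquiv' (R := ℤ) (n := Fin l)) hf
    rw [map_pow, map_smul, map_one] at h1
    exact h1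
  set A := B.map (Int.castRingHom ℂ) with hA
  have hA1 : A ^ (2 * N) = ((q : ℂ) ^ N) • (1 : Matrix (Fin l) (Fin l) ℂ) := by
    have h1 := congrArg (RingHom.mapMatrix (Int.castRingHom ℂ)) hB1
    rw [map_pow] at h1
    rw [show A ^ (2 * N) = (RingHom.mapMatrix (Int.castRingHom ℂ)) B ^ (2 * N) from rfl, h1]
    ext i j
    rw [RingHom.mapMatrix_apply, Matrix.map_apply, Matrix.smul_apply, Matrix.smul_apply, Matrix.one_apply,
      Matrix.one_apply]
    split_ifs <;> simp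
  have h1 : LinearMap.det (1 - f) = (1 - B).det := by
    rw [← LinearMap.det_toMatrix', map_sub, Module.End.one_eq_id, LinearMap.toMatrix'_id]
  have h2 : (((1 - B).det : ℤ) : ℂ) = (1 - A).det := by
    have h3 := RingHom.map_det (Int.castRingHom ℂ) (1 - B)
    rw [map_sub, map_one] at h3
    exact h3
  have h3 := norm_det_le' hN hA1
  rw [← h2, Complex.norm_intCast, ← h1] at h3
  rw [Nat.cast_natAbs, Int.cast_abs]
  exact h3

end Cfsg.Agent.H448.FprCent
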