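import Mathlib
import Cfsg.Agent.H493.F4Tor
import Cfsg.Agent.H493.PGF4
import Cfsg.Agent.H378.TorDual
import Cfsg.Agent.H448.FprCent.DetS

/-!
# The lattice of the Steinberg endomorphisms of `F₄` (helper448)

`Rl m` : the effect of `ste k m` on the characters of the torus; `det_bound` : `|det (w - Rl m)| ≤ (√q + 1) ^ 4`.
-/

set_option autoImplicit false
set_option linter.unusedSectionVars false

namespace Cfsg.Agent.H448.FprCent

open CoxeterSystem Subgroup Cfsg Cfsg.Lie Cfsg.Lie.ChevalleyDatum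
open Cfsg.Agent.ChevalleyStructure Cfsg.Agent.ChevalleyStructure.Elts Cfsg.Agent.ChevalleyStructure.CoxeterGeom
  Cfsg.Agent.ChevalleyStructure.CoxeterGeomTypes Cfsg.Agent.ChevalleyStructure.NPerm
open Cfsg.Agent.Tits.Roots Cfsg.Agent.Tits.Core
open Cfsg.Agent.H493.F4Tor (rv eN)

universe u

/-- the lattice map of the Steinberg endomorphism -/
def Rl (m : ℕ) : Module.End ℤ (Fin 4 → ℤ) where
  toFun x i := ((eN i * 2 ^ m : ℕ) : ℤ) * x (rv i)
  map_add' x y := by
    funext i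
    simp only [Pi.add_apply, mul_add]
  map_smul' c x := by
    funext i
    simp only [Pi.smul_apply, smul_eq_mul, RingHom.id_apply]
    ring

theorem Rl_apply (m : ℕ) (x : Fin 4 → ℤ) (i : Fin 4) : Rl m x i = ((eN i * 2 ^ m : ℕ) : ℤ) * x (rv i) := rfl

theorem rv_rv' (j : Fin 4) : rv (rv j) = j := Cfsg.Agent.H493.F4Tor.rv_rv j

theorem rv_inj {i j : Fin 4} (h : rv i = rv j) : i = j := by
  rw [← rv_rv' i, h, rv_rv']

theorem Rl_sr (m : ℕ) (j : Fin 4) : Rl m (sr (rv j)) = ((eN j * 2 ^ m : ℕ) : ℤ) • (sr j : Fin 4 → ℤ) := by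
  funext i
  rw [Rl_apply, Pi.smul_apply, smul_eq_mul]
  by_cases h : i = j
  · subst h
    rw [sr_self, sr_self]
  · rw [sr_ne (fun h1 => h (rv_inj h1)), sr_ne h, mul_zero, mul_zero]

theorem eN_mul (i : Fin 4) : eN i * eN (rv i) = 2 := by
  revert i; decide

theorem Rl_sq (m : ℕ) : Rl m * Rl m = ((2 ^ (2 * m + 1) : ℕ) : ℤ) • (1 : Module.End ℤ (Fin 4 → ℤ)) := by
  refine LinearMap.ext fun x => funext fun i => ?_
  rw [Module.End.mul_apply, Rl_apply, Rl_apply, rv_rv', LinearMap.smul_apply, Module.End.one_apply, Pi.smul_apply,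
    smul_eq_mul, ← mul_assoc, ← Nat.cast_mul]
  congr 2
  calc eN i * 2 ^ m * (eN (rv i) * 2 ^ m) = (eN i * eN (rv i)) * (2 ^ m * 2 ^ m) := by ring
    _ = _ := by rw [eN_mul]; ring

variable {W : Type*} [Group W] (cs : CoxeterSystem CoxeterMatrix.F₄ W) (h : IsCartan CoxeterMatrix.F₄ (cartanOf chevF4 4))

theorem Rl_comm (m : ℕ) (i : Fin 4) :
    Rl m * rep cs h (cs.simple i) = rep cs h (cs.simple (rv i)) * Rl m := by
  refine LinearMap.ext fun x => ?_
  rw [Module.End.mul_apply, Module.End.mul_apply, rep_simple_eq, rep_simple_eq, map_sub, map_smul]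
  have h1 : Rl m (sr i) = ((eN (rv i) * 2 ^ m : ℕ) : ℤ) • (sr (rv i) : Fin 4 → ℤ) := by
    rw [← Rl_sr, rv_rv']
  have h2 : pairing (cartanOf chevF4 4) (rv i) (Rl m x) =
      pairing (cartanOf chevF4 4) i x * ((eN (rv i) * 2 ^ m : ℕ) : ℤ) := by
    simp only [pairing, ← Cfsg.Agent.H493.PGF4.hA, Rl_apply, Fin.sum_univ_four]
    fin_cases i <;> simp [Cfsg.Agent.H493.PGF4.Am, rv, eN] <;> ring
  rw [h1, h2, smul_smul]

theorem exists_comm_W (m : ℕ) (w : W) : ∃ w' : W, Rl m * rep cs h w = rep cs h w' * Rl m := by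
  refine cs.simple_induction (p := fun w => ∃ w' : W, Rl m * rep cs h w = rep cs h w' * Rl m) w
    (fun i => ⟨_, Rl_comm cs h m i⟩) ⟨1, by rw [map_one, one_mul, mul_one]⟩ ?_
  rintro w v ⟨w', h1⟩ ⟨v', h2⟩
  refine ⟨w' * v', ?_⟩
  rw [map_mul, map_mul, ← mul_assoc, h1, mul_assoc, h2, ← mul_assoc]

theorem rep_inv_mul (w : W) : rep cs h w⁻¹ * rep cs h w = 1 := by
  rw [← map_mul, inv_mul_cancel, map_one]

theorem natAbs_det_rep (w : W) : (LinearMap.det (rep cs h w)).natAbs = 1 := by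
  have h1 : LinearMap.det (rep cs h w⁻¹) * LinearMap.det (rep cs h w) = 1 := by
    rw [← map_mul, rep_inv_mul, map_one]
  exact Int.natAbs_of_isUnit (IsUnit.of_mul_eq_one_right _ h1)

theorem det_eq (m : ℕ) (w : W) :
    LinearMap.det (rep cs h w - Rl m) = LinearMap.det (1 - Rl m * rep cs h w⁻¹) * LinearMap.det (rep cs h w) := by
  rw [← map_mul]
  congr 1
  rw [sub_mul, one_mul, mul_assoc, rep_inv_mul, mul_one]

/-- **The determinant.** -/
theorem det_bound [Finite W] (m : ℕ) (w : W) :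
    (((LinearMap.det (rep cs h w - Rl m)).natAbs : ℕ) : ℝ) ≤ (Real.sqrt (2 ^ (2 * m + 1) : ℕ) + 1) ^ 4 := by
  rw [det_eq, Int.natAbs_mul, natAbs_det_rep, mul_one]
  obtain ⟨w', hw'⟩ := exists_comm_W cs h m w⁻¹
  refine natAbs_det_le' (N := Nat.card W) Nat.card_pos.ne' ?_
  have h1 : (Rl m * rep cs h w⁻¹) ^ 2 = ((2 ^ (2 * m + 1) : ℕ) : ℤ) • rep cs h (w' * w⁻¹) := by
    rw [pow_two]
    calc Rl m * rep cs h w⁻¹ * (Rl m * rep cs h w⁻¹) = (Rl m * rep cs h w⁻¹) * Rl m * rep cs h w⁻¹ := by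
          simp only [mul_assoc]
      _ = rep cs h w' * (Rl m * Rl m) * rep cs h w⁻¹ := by rw [hw']; simp only [mul_assoc]
      _ = _ := by rw [Rl_sq, mul_smul_comm, mul_one, smul_mul_assoc, map_mul]
  rw [pow_mul, h1, smul_pow, ← map_pow, pow_card_eq_one', map_one]

theorem det_ne [Finite W] {m : ℕ} (hm : 1 ≤ m) (w : W) (k : Type u) [Field k] [CharP k 2] :
    ((LinearMap.det (rep cs h w - Rl m) : ℤ) : k) ≠ 0 := by
  rw [det_eq, Int.cast_mul]
  refine mul_ne_zero ?_ ?_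
  · have h1 : (LinearMap.det (1 - Rl m * rep cs h w⁻¹) : ℤ) = (1 - LinearMap.toMatrix' (Rl m * rep cs h w⁻¹)).det := by
      rw [← LinearMap.det_toMatrix', map_sub, Module.End.one_eq_id, LinearMap.toMatrix'_id]
    have h2 : (((1 - LinearMap.toMatrix' (Rl m * rep cs h w⁻¹)).det : ℤ) : k) = 1 := by
      have h3 := RingHom.map_det (Int.castRingHom k) (1 - LinearMap.toMatrix' (Rl m * rep cs h w⁻¹))
      rw [map_sub, map_one] at h3
      have h4 : (RingHom.mapMatrix (Int.castRingHom k)) (LinearMap.toMatrix' (Rl m * rep cs h w⁻¹)) = 0 := by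
        ext i j
        rw [RingHom.mapMatrix_apply, Matrix.map_apply, LinearMap.toMatrix'_apply, Module.End.mul_apply, Rl_apply,
          map_mul]
        have h5 : (Int.castRingHom k) ((eN i * 2 ^ m : ℕ) : ℤ) = 0 := by
          rw [map_natCast, Nat.cast_mul, Nat.cast_pow]
          have : ((2 : ℕ) : k) = 0 := CharP.cast_eq_zero k 2
          rw [this, zero_pow (by omega), mul_zero]
        rw [h5, zero_mul]
        rfl
      rw [h4, sub_zero, Matrix.det_one] at h3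
      exact h3
    rw [h1, h2]
    exact one_ne_zero
  · have h1 : LinearMap.det (rep cs h w⁻¹) * LinearMap.det (rep cs h w) = 1 := by
      rw [← map_mul, rep_inv_mul, map_one]
    intro h2
    have h3 := congrArg (Int.cast : ℤ → k) h1
    rw [Int.cast_mul, h2, mul_zero, Int.cast_one] at h3
    exact zero_ne_one h3

end Cfsg.Agent.H448.FprCent
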