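import Mathlib
import Cfsg.Agent.H378.RegTw
import Cfsg.Agent.H448.FprCent.Det

/-!
# Centralisers of semisimple elements without `p`-elements (helper448)

`inv_or_card` : in the situation of `Cfsg.Agent.H378.RegTw.adj_or_comm` (all groups of Lie type but the Suzuki and Ree
groups), an element `x` of prime order `ℓ ∤ p |W|` commutes with an element of order `p`, or `|C(x)| ≤ (q + 1) ^ l`.
-/

set_option autoImplicit false
set_option linter.unusedSectionVars false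

namespace Cfsg.Agent.H448.FprCent

open CoxeterSystem Subgroup Cfsg Cfsg.Lie Cfsg.Lie.ChevalleyDatum
open Cfsg.Agent.ChevalleyStructure Cfsg.Agent.ChevalleyStructure.Elts Cfsg.Agent.ChevalleyStructure.CoxeterGeom
  Cfsg.Agent.ChevalleyStructure.CoxeterGeomTypes Cfsg.Agent.ChevalleyStructure.NPerm
open Cfsg.Agent.Tits.Roots Cfsg.Agent.Tits.Core Cfsg.Agent.Nodes.Reps Cfsg.Agent.Nodes.BNOf
  Cfsg.Agent.Nodes.RGDChev Cfsg.Agent.Nodes.Bruhat
open Cfsg.Agent.KFacts.RgdField Cfsg.Agent.KFacts.RgdChevCoord Cfsg.Agent.BpExc Cfsg.Agent.BpExc.TorCent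
  Cfsg.Agent.BpExc.TorChev Cfsg.Agent.BpExc.Tow Cfsg.Agent.BpExc.TowChev Cfsg.Agent.BpExc.Fr Cfsg.Agent.BpExc.Pair
  Cfsg.Agent.BpExc.LangFr
open Cfsg.Agent.H129.TorusChar
open Cfsg.Agent.H378.TorDual Cfsg.Agent.H378.TorChar Cfsg.Agent.H378.TorFin Cfsg.Agent.H378.LatRoot
  Cfsg.Agent.H378.LatCyc Cfsg.Agent.H378.Regular Cfsg.Agent.H378.RegTw

universe u v

variable {D : ChevalleyDatum} {l : ℕ} {M : CoxeterMatrix (Fin l)} (hp : IsType D l M) {k : Type u} [Field k]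
  {W : Type*} [Group W] (cs : CoxeterSystem M W) [IsAlgClosed k] (hk : LocFin k) {p e : ℕ} [Fact p.Prime] [CharP k p]
  {σ : MulAut ↥(D.group k)} {g : (Fin l → ℤ) ≃+ (Fin l → ℤ)}
  {G0 : Type*} [Group G0] [Finite G0] {e0 : G0 →* ↥(D.group k)}

include hp cs hk in
/-- **Either an element of order `p` commutes with `x` or `|C(x)| ≤ (q + 1) ^ l`.** -/
theorem inv_or_card [Finite W] (hka : BpExc.TorAll.HAlg p k) (he : 0 < e) (hσ : IsFrob p e σ)
    (F : Fr cs hp.isCartan (TT D k) (XX D l k) σ g) (he0 : Function.Injective e0) (hfix : ∀ a, σ (e0 a) = e0 a) {d : ℕ}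
    (hd : ∀ y, σ y = y → y ^ d ∈ e0.range) (hpd : ¬ p ∣ d) {x : G0} {ℓ : ℕ} (hℓ : ℓ.Prime) (hℓp : ℓ ≠ p)
    (hx : orderOf x = ℓ) (hℓW : ¬ ℓ ∣ Nat.card W) :
    (∃ v : G0, orderOf v = p ∧ Commute v x) ∨ Nat.card ↥(Subgroup.centralizer {x}) ≤ (p ^ e + 1) ^ l := by
  have hxℓ : x ^ ℓ = 1 := by rw [← hx]; exact pow_orderOf_eq_one x
  have hx1 : x ≠ 1 := by
    rintro rfl
    rw [orderOf_one] at hx
    exact hℓ.one_lt.ne hx
  obtain ⟨g', χ, hg', hE, h1, h2⟩ := pair_core hp cs hk hka he hσ F (hfix x) hℓ hℓp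
    (by rw [← map_pow, hxℓ, map_one]) (fun h => hx1 (he0 (h.trans (map_one _).symm))) hℓW
  by_cases hr : ∃ a, IsRoot cs hp.isCartan a ∧ χ (Multiplicative.ofAdd a) = 1
  · obtain ⟨u, hu, hc, ho⟩ := h1 hr
    exact Or.inl (exists_desc he0 hd hpd hu hc ho)
  · right
    push Not at hr
    obtain ⟨φ, hφ⟩ := h2 hr
    obtain ⟨ψ, hψ⟩ := exists_cent he0 hfix hφ
    obtain ⟨N, hN, hwN⟩ := exists_pow_one (cs := cs) (h := hp.isCartan) hg'
    have hdet : ((LinearMap.det (endo g' - ((p ^ e : ℕ) : ℤ) • (1 : Module.End ℤ (Fin l → ℤ))) : ℤ) : k) ≠ 0 := by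
      refine det_ne_zero (endo_mul_symm g') ?_
      rw [Int.cast_natCast, Nat.cast_pow, CharP.cast_eq_zero, zero_pow he.ne']
    have hfin : Finite ↥(KerOf k (endo g' - ((p ^ e : ℕ) : ℤ) • (1 : Module.End ℤ (Fin l → ℤ)))) := by
      refine Nat.finite_of_card_ne_zero ?_
      rw [card_kerOf k hdet, Ne, Int.natAbs_eq_zero]
      intro h
      rw [h, Int.cast_zero] at hdet
      exact hdet rfl
    calc Nat.card ↥(Subgroup.centralizer {x}) ≤ _ := Nat.card_le_card_of_injective ψ hψ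
      _ = _ := card_kerOf k hdet
      _ ≤ _ := natAbs_det_le hN.ne' hwN (p ^ e)

end Cfsg.Agent.H448.FprCent
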