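import Mathlib
import Cfsg.Agent.H378.RegFin
import Cfsg.Agent.H666.SigFr
import Cfsg.Agent.H448.FprCent.Cent

/-!
# Centralisers of semisimple elements without `p`-elements: untwisted groups (helper448)
-/

set_option autoImplicit false
set_option linter.unusedSectionVars false

namespace Cfsg.Agent.H448.FprCent

open CoxeterSystem Subgroup Cfsg Cfsg.Lie Cfsg.Lie.ChevalleyDatum
open Cfsg.Agent.ChevalleyStructure Cfsg.Agent.ChevalleyStructure.Elts Cfsg.Agent.ChevalleyStructure.CoxeterGeom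
  Cfsg.Agent.ChevalleyStructure.CoxeterGeomTypes Cfsg.Agent.ChevalleyStructure.NPerm
open Cfsg.Agent.Tits.Roots Cfsg.Agent.Tits.Core Cfsg.Agent.Nodes.Reps Cfsg.Agent.Nodes.BNOf
  Cfsg.Agent.Nodes.RGDChev Cfsg.Agent.Nodes.Bruhat
open Cfsg.Agent.KFacts.RgdField Cfsg.Agent.KFacts.RgdChevCoord Cfsg.Agent.BpExc.TorCent Cfsg.Agent.BpExc.TorChev
open Cfsg.Agent.BpExc.Tow Cfsg.Agent.BpExc.TowChev Cfsg.Agent.BpExc.FamExt Cfsg.Agent.BpExc.FamUntw
  Cfsg.Agent.BpExc.FamInst Cfsg.Agent.BpExc.LangFr Cfsg.Agent.BpExc.FamField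
open Cfsg.Agent.GpExc.Field (glMap emb coe_emb glMap_xG emb_injective coe_glMap)
open Cfsg.Agent.H378.TorDual Cfsg.Agent.H378.TorChar Cfsg.Agent.H378.TorFin

universe u

/-- **Untwisted groups**: an element `x` of prime order `ℓ > l + 1` commutes with an element of order `r` (`r` the
characteristic) or `|C(x)| ≤ (q + 1) ^ l`. -/
theorem inv_or_card_untw {D : ChevalleyDatum} {l : ℕ} {M : CoxeterMatrix (Fin l)} (hp : IsType D l M) {d : ℕ}
    {B : Fin l → Fin l → ℤ} (hB : InvC D l d B) (hd : d ≠ 0) {F : Type u} [Field F] [Finite F] {r : ℕ}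
    [hr : Fact r.Prime] [CharP F r] (hrd : ¬ r ∣ d) {x : ↥(D.group F)} {ℓ : ℕ} (hℓ : ℓ.Prime) (hℓr : ℓ ≠ r)
    (hx : orderOf x = ℓ) (hlℓ : l + 1 < ℓ) :
    (∃ v : ↥(D.group F), orderOf v = r ∧ Commute v x) ∨
      Nat.card ↥(Subgroup.centralizer {x}) ≤ (Nat.card F + 1) ^ l := by
  obtain ⟨k, _, _, f, r', _, _, n, hk, hka, hn0, hn⟩ := exists_closure F
  have hrr : r' = r := by
    have h1 : CharP F r' := RingHom.charP f f.injective r'
    exact CharP.eq F h1 ‹CharP F r›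
  subst hrr
  let cs : CoxeterSystem M M.Group := M.toCoxeterSystem
  have := finite_W hp cs
  have hσ : BpExc.LangFr.IsFrob r' n (phi D k r' n) :=
    Cfsg.Agent.H666.SigFr.isFrob_fld fun a => frb_apply k r' n a
  have hFr := Cfsg.Agent.H666.SigFr.fr_fld hp cs (frb k r' n)
  rw [hn]
  exact inv_or_card hp cs hk hka hn0 hσ hFr (emb_injective hp.inList f) (phi_emb' hp f r' hn)
    (fun y hy => fix_pow_mem hp f r' hn hB hd hy) hrd hℓ hℓr hx
    (fun h => by have := H378.LatCodim.le_of_dvd_card cs hp.isCartan hℓ h; omega)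

end Cfsg.Agent.H448.FprCent
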