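import Mathlib
import Cfsg.Agent.H659.TwF4Ord
import Cfsg.Agent.H448.FprCent.Untw

/-!
# Centralisers of semisimple elements of `²F₄(q)` without involutions (helper448)

`cent_twF4` : an element `x` of prime order `> 5` of `²F₄(q)` commutes with an involution or `|C(x)| ≤ (q + 1) ^ 4`.
-/

set_option autoImplicit false
set_option linter.unusedSectionVars false

namespace Cfsg.Agent.H448.FprCent

open Subgroup

/-- an automorphism of order two fixing a subgroup of even order centralises an involution of it -/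
theorem exists_fixed_inv {G : Type*} [Group G] [Finite G] {C : Subgroup G} (γ : G →* G) (hγ : ∀ g, γ (γ g) = g)
    (hC : ∀ g ∈ C, γ g ∈ C) {v : G} (hv : v ∈ C) (h2 : orderOf v = 2) : ∃ u ∈ C, γ u = u ∧ orderOf u = 2 := by
  have hv2 : v * v = 1 := by rw [← pow_two, ← h2]; exact pow_orderOf_eq_one v
  have hvinv : v⁻¹ = v := inv_eq_of_mul_eq_one_right hv2
  have hγv2 : γ v * γ v = 1 := by rw [← map_mul, hv2, map_one]
  have hγvinv : (γ v)⁻¹ = γ v := inv_eq_of_mul_eq_one_right hγv2
  set w := v * γ v with hw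
  have hwC : w ∈ C := mul_mem hv (hC v hv)
  have hγw : γ w = w⁻¹ := by rw [hw, map_mul, hγ, mul_inv_rev, hvinv, hγvinv]
  have hwinv : w⁻¹ = γ v * v := by rw [hw, mul_inv_rev, hvinv, hγvinv]
  have hconj : ∀ n : ℕ, v * w ^ n * v = (w⁻¹) ^ n := by
    intro n
    have h1 : v * w ^ n * v = (v * w * v⁻¹) ^ n := by rw [conj_pow, hvinv]
    rw [h1, hvinv]
    congr 1
    rw [hwinv, hw, ← mul_assoc, hv2, one_mul]
  have hn : 0 < orderOf w := orderOf_pos w
  rcases Nat.even_or_odd' (orderOf w) with ⟨k, hk | hk⟩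
  · refine ⟨w ^ k, pow_mem hwC k, ?_, ?_⟩
    · have h1 : w ^ k * w ^ k = 1 := by rw [← pow_add, ← two_mul, ← hk]; exact pow_orderOf_eq_one w
      rw [map_pow, hγw, inv_pow]
      exact inv_eq_of_mul_eq_one_right h1
    · refine orderOf_eq_prime ?_ ?_
      · rw [← pow_mul, mul_comm, ← hk]; exact pow_orderOf_eq_one w
      · intro h
        have := Nat.le_of_dvd (by omega) (orderOf_dvd_of_pow_eq_one h)
        omega
  · refine ⟨w ^ k * v, mul_mem (pow_mem hwC k) hv, ?_, ?_⟩
    · have h1 : w ^ (2 * k + 1) = 1 := by rw [← hk]; exact pow_orderOf_eq_one w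
      have h2 : γ v = w⁻¹ * v := by rw [hwinv, mul_assoc, hv2, mul_one]
      rw [map_mul, map_pow, hγw, h2, ← mul_assoc]
      congr 1
      rw [inv_pow, ← mul_inv_rev, inv_eq_iff_mul_eq_one, ← pow_succ', ← pow_add]
      rw [← h1]
      congr 1
      omega
    · refine orderOf_eq_prime ?_ ?_
      · rw [pow_two]
        calc w ^ k * v * (w ^ k * v) = w ^ k * (v * w ^ k * v) := by group
          _ = 1 := by rw [hconj, inv_pow, mul_inv_cancel]
      · intro h
        have h3 : v = (w ^ k)⁻¹ := (inv_eq_of_mul_eq_one_right h).symm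
        have h4 : orderOf v ∣ orderOf w := by
          rw [h3, orderOf_inv]
          exact orderOf_pow_dvd k
        rw [h2, hk] at h4
        omega

open Cfsg Cfsg.Lie Cfsg.Lie.ChevalleyDatum
open Cfsg.Agent.ChevalleyStructure Cfsg.Agent.ChevalleyStructure.TwF4 Cfsg.Agent.ChevalleyStructure.TwF4.Fix
  Cfsg.Agent.ChevalleyStructure.TwF4.TwistedFix Cfsg.Agent.H493.F4End Cfsg.Agent.H493.F4Fix
  Cfsg.Agent.H659.TwF4Ord

universe u

variable {K : Type u} [Field K] [Fintype K] {m : ℕ}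

theorem ste_inc [CharP K 2] (hK : Fintype.card K = 2 ^ (2 * m + 1)) (x : ↥(twistedF4 K (2 ^ m))) :
    ste K m (inc K (2 ^ m) x) = inc K (2 ^ m) x := by
  obtain ⟨φ, hφ⟩ := Cfsg.Agent.ChevalleyStructure.TwF4.TwistedFix.exists_rln hK
  have h1 := twisted_le_Fix' hK hφ x.2
  apply iA_injective
  apply Units.ext
  show Amat (mt (ste K m (inc K (2 ^ m) x))) = Amat (mt (inc K (2 ^ m) x))
  rw [Amat_ste]
  have h2 : Cmat (mt (inc K (2 ^ m) x)) = (Amat (mt (inc K (2 ^ m) x))).map φ := h1.2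
  rw [h2]
  ext i j
  rw [Matrix.map_apply, Matrix.map_apply, iterateFrobenius_def, ← map_pow, hφ.phi_pow]

theorem ste_ste_id [CharP K 2] (hK : Fintype.card K = 2 ^ (2 * m + 1)) (g : ↥(chevF4.group K)) :
    ste K m (ste K m g) = g := by
  rw [ste_ste]
  apply Subtype.ext
  apply Units.ext
  rw [Cfsg.Agent.GpExc.Field.coe_emb, Cfsg.Agent.GpExc.Field.coe_glMap]
  ext i j
  rw [Matrix.map_apply, iterateFrobenius_def, ← hK]
  exact FiniteField.pow_card _

theorem cent_twF4 (hK : Fintype.card K = 2 ^ (2 * m + 1)) {x : ↥(twistedF4 K (2 ^ m))} {p : ℕ} (hp : p.Prime)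
    (hp5 : 5 < p) (hx : orderOf x = p) :
    (∃ v : ↥(twistedF4 K (2 ^ m)), orderOf v = 2 ∧ Commute v x) ∨
      Nat.card ↥(Subgroup.centralizer {x}) ≤ (Nat.card K + 1) ^ 4 := by
  have := Cfsg.Agent.ChevalleyStructure.TwF4.Twisted.charP_two hK
  have h2 : Fact (Nat.Prime 2) := ⟨Nat.prime_two⟩
  have hx' : orderOf (inc K (2 ^ m) x) = p := by
    rw [← hx]; exact orderOf_injective _ (inc_injective (K := K) (2 ^ m)) x
  rcases inv_or_card_untw (F := K) (r := 2) BpExc.RowsUntw.f4T BpExc.FamInst.inv_F4 one_ne_zero (by norm_num) hp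
    (by omega) hx' (by omega) with ⟨v, hv, hc⟩ | h
  · left
    obtain ⟨u, hu, hγ, hu2⟩ := exists_fixed_inv (C := Subgroup.centralizer {inc K (2 ^ m) x}) (ste K m) (ste_ste_id hK)
      (fun g hg => by
        rw [mem_centralizer_singleton_iff] at hg ⊢
        have h3 := congrArg (ste K m) hg
        rwa [map_mul, map_mul, ste_inc hK] at h3) (v := v) (mem_centralizer_singleton_iff.2 hc.eq) hv
    have h4 := mem_twisted hK hγ
    refine ⟨⟨u, h4⟩, ?_, ?_⟩
    · exact (orderOf_injective _ (inc_injective (K := K) (2 ^ m)) ⟨u, h4⟩).symm.trans hu2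
    · apply inc_injective (K := K) (2 ^ m)
      rw [map_mul, map_mul]
      exact mem_centralizer_singleton_iff.1 hu
  · right
    refine le_trans ?_ h
    refine Nat.card_le_card_of_injective (fun y : ↥(Subgroup.centralizer {x}) =>
      (⟨inc K (2 ^ m) y.1, ?_⟩ : ↥(Subgroup.centralizer {inc K (2 ^ m) x}))) ?_
    · rw [mem_centralizer_singleton_iff, ← map_mul, mem_centralizer_singleton_iff.1 y.2, map_mul]
    · intro a b hab
      exact Subtype.ext (inc_injective (K := K) (2 ^ m) (congrArg Subtype.val hab))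

end Cfsg.Agent.H448.FprCent
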