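import Mathlib
import Cfsg.Agent.H448.FprCent.TwF
import Cfsg.Agent.H448.FprCent.SteLat

/-!
# Centralisers of semisimple elements of `²F₄(q)` without involutions: the sharp bound (helper448)

`cent_ste` : an element `x` of prime order `> 5` of `²F₄(q)` commutes with an involution or `|C(x)| ≤ (√q + 1) ^ 4`.
-/

set_option autoImplicit false
set_option linter.unusedSectionVars false

namespace Cfsg.Agent.H448.FprCent

open CoxeterSystem Subgroup Cfsg Cfsg.Lie Cfsg.Lie.ChevalleyDatum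
open Cfsg.Agent.ChevalleyStructure Cfsg.Agent.ChevalleyStructure.Elts Cfsg.Agent.ChevalleyStructure.CoxeterGeom
  Cfsg.Agent.ChevalleyStructure.CoxeterGeomTypes Cfsg.Agent.ChevalleyStructure.NPerm
open Cfsg.Agent.Tits.Roots Cfsg.Agent.Tits.Core Cfsg.Agent.Nodes.Reps Cfsg.Agent.Nodes.BNOf
  Cfsg.Agent.Nodes.RGDChev Cfsg.Agent.Nodes.Bruhat
open Cfsg.Agent.KFacts.RgdField Cfsg.Agent.KFacts.RgdChevCoord Cfsg.Agent.BpExc Cfsg.Agent.BpExc.TorCent
  Cfsg.Agent.BpExc.TorChev Cfsg.Agent.BpExc.Tow Cfsg.Agent.BpExc.TowChev Cfsg.Agent.BpExc.Fr Cfsg.Agent.BpExc.Pair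
  Cfsg.Agent.BpExc.LangFr
open Cfsg.Agent.BpExc.FamExt Cfsg.Agent.BpExc.FamUntw Cfsg.Agent.BpExc.FamInst Cfsg.Agent.BpExc.FamField
open Cfsg.Agent.H129.TorusChar
open Cfsg.Agent.H378.TorDual Cfsg.Agent.H378.TorChar Cfsg.Agent.H378.TorFin Cfsg.Agent.H378.LatRoot
  Cfsg.Agent.H378.Regular

universe u v

section Alg

variable {D : ChevalleyDatum} {l : ℕ} {M : CoxeterMatrix (Fin l)} (hp : IsType D l M) {k : Type u} [Field k]
  {W : Type*} [Group W] (cs : CoxeterSystem M W) [IsAlgClosed k] (hk : LocFin k) {p e : ℕ} [Fact p.Prime] [CharP k p]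

include cs hk in
/-- an element of order `p` commutes with `x`, or `x` is conjugate to a regular element of the torus -/
theorem inv_or_regular [Finite W] (hka : BpExc.TorAll.HAlg p k) (he : 0 < e) {σ : MulAut ↥(D.group k)}
    {g : (Fin l → ℤ) ≃+ (Fin l → ℤ)} (hσ : IsFrob p e σ) (F : Fr cs hp.isCartan (TT D k) (XX D l k) σ g)
    {x : ↥(D.group k)} (hσx : σ x = x) {ℓ : ℕ} (hℓ : ℓ.Prime) (hℓp : ℓ ≠ p) (hx : x ^ ℓ = 1) :
    (∃ u, σ u = u ∧ u * x = x * u ∧ orderOf u = p) ∨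
      ∃ t c : ↥(D.group k), t ∈ TT D k ∧ c⁻¹ * x * c = t ∧ ∀ a, IsRoot cs hp.isCartan a → ch hp a t ≠ 1 := by
  obtain ⟨z0, hz0⟩ := TorAll.exists_toral hp p hka hℓ hℓp hx
  obtain ⟨t, c, k', g', ht, hct, hck, hF1, hF2, hF3, hF4⟩ := H238.exists_pair_conj hp cs hk he hσ F hσx
    (z := z0⁻¹) (by rwa [inv_inv])
  by_cases hr : ∃ a, IsRoot cs hp.isCartan a ∧ ch hp a t = 1
  · left
    obtain ⟨a, ha, h1⟩ := hr
    have hne : (Sx cs hp.isCartan (ch hp) t).Nonempty := ⟨a, ha, h1⟩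
    obtain ⟨u, hu, hu1, hup⟩ := H238.ExcCore.core_one hp cs hk he ht hF1 hF2 hF3 hF4 hne
    obtain ⟨h2, h3⟩ := mem_fixC.1 ((fixEquiv hct hck ⟨u, hu⟩).2)
    refine ⟨_, h2, h3, ?_⟩
    show orderOf (c * u * c⁻¹) = p
    have h4 : orderOf (c * u * c⁻¹) = orderOf u :=
      orderOf_injective (MulAut.conj c).toMonoidHom (MulAut.conj c).injective u
    rw [h4]
    exact orderOf_eq_prime hup hu1
  · right
    push Not at hr
    exact ⟨t, c, ht, hct, hr⟩

end Alg

open Cfsg.Agent.H493.F4End Cfsg.Agent.H493.F4Tor Cfsg.Agent.H659.TwF4Ord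
open Cfsg.Agent.GpExc.Field (glMap emb coe_emb glMap_xG emb_injective coe_glMap)

section

variable {k : Type u} [Field k] [IsAlgClosed k] [CharP k 2] {W : Type*} [Group W]
  (cs : CoxeterSystem CoxeterMatrix.F₄ W)

/-- characters of `ste s` -/
theorem cX_ste_all (m : ℕ) {s : ↥(chevF4.group k)} (hs : s ∈ TT chevF4 k) (x : Fin 4 → ℤ) :
    cX H493.F4Tor.hp (ste k m s) x = cX H493.F4Tor.hp s (Rl m x) := by
  refine (isMC_cX H493.F4Tor.hp (ste_TT (m := m) hs)).ext
    ((isMC_cX H493.F4Tor.hp hs).comp (Rl m).toAddMonoidHom) (fun i => ?_) x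
  show cX H493.F4Tor.hp (ste k m s) (sr i) = cX H493.F4Tor.hp s (Rl m (sr i))
  have h1 := cX_ste m hs (rv i)
  have h2 := Rl_sr m (rv i)
  rw [rv_rv] at h1 h2
  rw [h1, h2, (isMC_cX H493.F4Tor.hp hs).zsmul, zpow_natCast]

theorem mem_ker (hk : LocFin k) {m : ℕ} {w : W} {n s : ↥(chevF4.group k)}
    (hn : Rp cs (nsysL H493.F4Tor.hp cs hk 2) w n) (hs : s ∈ TT chevF4 k) (h : n * ste k m s * n⁻¹ = s) :
    tchar H493.F4Tor.hp ⟨s, hs⟩ ∈ KerOf k (rep cs H493.F4Tor.hp.isCartan w - Rl m) := by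
  refine fun x => Units.ext ?_
  rw [H378.RegTw.tchar_eq_cX, LinearMap.sub_apply, (isMC_cX H493.F4Tor.hp hs).sub]
  have h1 := cX_rp H493.F4Tor.hp cs hk 2 hn (ste_TT (m := m) hs) x
  rw [h] at h1
  rw [h1, cX_ste_all m hs, div_self ((isMC_cX H493.F4Tor.hp hs).ne_zero _)]
  rfl

end

theorem cent_ste {K : Type u} [Field K] [Fintype K] {m : ℕ} (hm : 1 ≤ m) (hK : Fintype.card K = 2 ^ (2 * m + 1))
    {x : ↥(twistedF4 K (2 ^ m))} {p : ℕ} (hp : p.Prime) (hp5 : 5 < p) (hx : orderOf x = p) :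
    (∃ v : ↥(twistedF4 K (2 ^ m)), orderOf v = 2 ∧ Commute v x) ∨
      (Nat.card ↥(Subgroup.centralizer {x}) : ℝ) ≤ (Real.sqrt (Nat.card K) + 1) ^ 4 := by
  have hKc := Cfsg.Agent.ChevalleyStructure.TwF4.Twisted.charP_two hK
  have h2 : Fact (Nat.Prime 2) := ⟨Nat.prime_two⟩
  obtain ⟨k, _, _, f, r', _, _, n, hk, hka, hn0, hn⟩ := exists_closure K
  have hrr : r' = 2 := by
    have h1 : CharP K r' := RingHom.charP f f.injective r'
    exact CharP.eq K h1 hKc
  subst hrr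
  let cs : CoxeterSystem CoxeterMatrix.F₄ CoxeterMatrix.F₄.Group := CoxeterMatrix.F₄.toCoxeterSystem
  have hWf := finite_W H493.F4Tor.hp cs
  have hσ : BpExc.LangFr.IsFrob 2 n (phi chevF4 k 2 n) :=
    Cfsg.Agent.H666.SigFr.isFrob_fld fun a => frb_apply k 2 n a
  have hFr := Cfsg.Agent.H666.SigFr.fr_fld H493.F4Tor.hp cs (frb k 2 n)
  have hℓW : ¬ p ∣ Nat.card CoxeterMatrix.F₄.Group := fun h => by
    have := H378.LatCodim.le_of_dvd_card cs H493.F4Tor.hp.isCartan hp h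
    omega
  set y0 : ↥(chevF4.group K) := inc K (2 ^ m) x with hy0
  set y : ↥(chevF4.group k) := emb hD f y0 with hy
  have hinj : Function.Injective (emb hD f) := emb_injective hD f
  have hxp : x ^ p = 1 := by rw [← hx]; exact pow_orderOf_eq_one x
  have hyp : y ^ p = 1 := by rw [hy, hy0, ← map_pow, ← map_pow, hxp, map_one, map_one]
  have hfix : ∀ z : ↥(chevF4.group K), phi chevF4 k 2 n (emb hD f z) = emb hD f z :=
    phi_emb' H493.F4Tor.hp f 2 hn
  rcases inv_or_regular H493.F4Tor.hp cs hk hka hn0 hσ hFr (hfix y0) hp (by omega) hyp with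
    ⟨u, hu, hc, ho⟩ | ⟨t, c, ht, hct, hreg⟩
  · left
    obtain ⟨v, hv, hcv⟩ := H378.RegTw.exists_desc (x := y0) hinj
      (fun y hy => fix_pow_mem H493.F4Tor.hp f 2 hn BpExc.FamInst.inv_F4 one_ne_zero hy) (by norm_num) hu hc ho
    obtain ⟨u, hu, hγ, hu2⟩ := exists_fixed_inv (C := Subgroup.centralizer {inc K (2 ^ m) x}) (ste K m) (ste_ste_id hK)
      (fun g hg => by
        rw [mem_centralizer_singleton_iff] at hg ⊢
        have h3 := congrArg (ste K m) hg
        rwa [map_mul, map_mul, ste_inc hK] at h3) (v := v) (mem_centralizer_singleton_iff.2 hcv.eq) hv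
    have h4 := H493.F4Fix.mem_twisted hK hγ
    refine ⟨⟨u, h4⟩, ?_, ?_⟩
    · exact (orderOf_injective _ (inc_injective (K := K) (2 ^ m)) ⟨u, h4⟩).symm.trans hu2
    · apply inc_injective (K := K) (2 ^ m)
      rw [map_mul, map_mul]
      exact mem_centralizer_singleton_iff.1 hu
  · right
    have htp : t ^ p = 1 := by
      rw [← hct]
      have h1 := conj_pow (a := c⁻¹) (b := y) (i := p)
      rw [inv_inv] at h1
      rw [h1, hyp]; group
    have hstey : ∀ z : ↥(twistedF4 K (2 ^ m)), ste k m (emb hD f (inc K (2 ^ m) z)) = emb hD f (inc K (2 ^ m) z) := by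
      intro z
      rw [← emb_ste, ste_inc hK]
    set n0 : ↥(chevF4.group k) := c⁻¹ * ste k m c with hn0'
    have hste : ∀ z : ↥(twistedF4 K (2 ^ m)),
        n0 * ste k m (c⁻¹ * emb hD f (inc K (2 ^ m) z) * c) * n0⁻¹ = c⁻¹ * emb hD f (inc K (2 ^ m) z) * c := by
      intro z
      rw [map_mul, map_mul, map_inv, hstey, hn0']
      group
    have hct' : c⁻¹ * emb hD f (inc K (2 ^ m) x) * c = t := hct
    have htt : n0 * ste k m t * n0⁻¹ = t := by rw [← hct']; exact hste x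
    obtain ⟨m', hm', w, g, hg, hgs, hc'⟩ := exists_form' H493.F4Tor.hp cs hk 2 (s := ste k m t) (t := t) (c := n0)
      (ste_TT (m := m) ht) ht (mul_inv_eq_iff_eq_mul.1 htt)
    rw [MM_eq_bot H493.F4Tor.hp cs hreg, Subgroup.mem_bot] at hm'
    rw [hm', one_mul] at hc'
    rw [← hc'] at hg
    have hmem : ∀ z : ↥(Subgroup.centralizer {x}), c⁻¹ * emb hD f (inc K (2 ^ m) z.1) * c ∈ TT chevF4 k := by
      intro z
      refine mem_TT_of_comm H493.F4Tor.hp cs ht hp hℓW htp hreg ?_ hk 2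
      rw [← hct']
      have h1 := mem_centralizer_singleton_iff.1 z.2
      have h3 : emb hD f (inc K (2 ^ m) z.1) * emb hD f (inc K (2 ^ m) x) =
          emb hD f (inc K (2 ^ m) x) * emb hD f (inc K (2 ^ m) z.1) := by
        rw [← map_mul, ← map_mul, h1, map_mul, map_mul]
      calc c⁻¹ * emb hD f (inc K (2 ^ m) z.1) * c * (c⁻¹ * emb hD f (inc K (2 ^ m) x) * c) =
          c⁻¹ * (emb hD f (inc K (2 ^ m) z.1) * emb hD f (inc K (2 ^ m) x)) * c := by group
        _ = _ := by rw [h3]; group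
    have hdet : ((LinearMap.det (rep cs H493.F4Tor.hp.isCartan w - Rl m) : ℤ) : k) ≠ 0 := det_ne cs _ hm w k
    have hfin : Finite ↥(KerOf k (rep cs H493.F4Tor.hp.isCartan w - Rl m)) := by
      apply Nat.finite_of_card_ne_zero
      rw [card_kerOf k hdet]
      intro h0
      apply hdet
      rw [Int.natAbs_eq_zero.1 h0, Int.cast_zero]
    have hle : Nat.card ↥(Subgroup.centralizer {x}) ≤
        Nat.card ↥(KerOf k (rep cs H493.F4Tor.hp.isCartan w - Rl m)) := by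
      refine Nat.card_le_card_of_injective (fun z : ↥(Subgroup.centralizer {x}) =>
        (⟨tchar H493.F4Tor.hp ⟨_, hmem z⟩, mem_ker cs hk hg (hmem z) (hste z.1)⟩ :
          ↥(KerOf k (rep cs H493.F4Tor.hp.isCartan w - Rl m)))) ?_
      intro a b hab
      have h1 := tchar_injective H493.F4Tor.hp (congrArg Subtype.val hab)
      have h3 : c⁻¹ * emb hD f (inc K (2 ^ m) a.1) * c = c⁻¹ * emb hD f (inc K (2 ^ m) b.1) * c :=
        congrArg Subtype.val h1
      have h4 := mul_left_cancel (mul_right_cancel h3)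
      exact Subtype.ext (inc_injective (K := K) (2 ^ m) (hinj h4))
    rw [card_kerOf k hdet] at hle
    have h5 := det_bound cs H493.F4Tor.hp.isCartan m w
    have h6 : Nat.card K = 2 ^ (2 * m + 1) := by rw [Nat.card_eq_fintype_card, hK]
    rw [h6]
    exact le_trans (by exact_mod_cast hle) h5

end Cfsg.Agent.H448.FprCent
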